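import Cfsg.Agent.Lib.KnownA.SteinbergMultiplier
import Cfsg.Agent.Lib.KnownA.SteinbergCenter
import Cfsg.Agent.Lib.KnownA.SteinbergCert.Emb
import Cfsg.Agent.Lib.Chevalley.TablesSt
import Cfsg.Agent.Lib.KnownA.E6Sub.Basic

/-!
A triple cover of ²E₆(q) for q ≡ 2 mod 3, inside the presented group of type E₆.
-/

set_option autoImplicit false
set_option maxRecDepth 20000
set_option Elab.async false
set_option linter.unusedSectionVars false
set_option maxHeartbeats 800000

namespace CfsgLib.KnownA.E6Multiplier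

open CfsgLib.Chevalley CfsgLib.Chevalley.Tbl CfsgLib.KnownA.E6Sub CfsgLib.KnownA.SteinbergUniv

universe u

variable {K : Type u} [Field K] [Finite K] {q : ℕ} (hq : IsPrimePow q) (hK : Nat.card K = q ^ 2)

local notation "TT" => Data.E6.tbl
local notation "GR" => Data.E6.graph
local notation "σ" => Twist.E6.fq hq hK
local notation "SS" => AbSetup.S (Twist.E6.setup hq hK)

theorem sTorus_inj : Function.Injective (sTorus (F := K) Twist.E6.stOk) :=
  sTorus_injective Twist.E6.stOk Data.E7.valid Data.E7.chkComm embE6 leftE6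

/-- A torus element supported on two pairs of indices. -/
theorem sTorus_four {T : Tbl} (hO : T.StOk) (hr : T.rank = 6) (f : Fin T.rank → Kˣ)
    (h1 : f ⟨1, by omega⟩ = 1) (h3 : f ⟨3, by omega⟩ = 1) :
    sTorus hO f = T.sH K (T.simple 0) (f ⟨0, by omega⟩ : Kˣ) * T.sH K (T.simple 5) (f ⟨5, by omega⟩ : Kˣ) *
      (T.sH K (T.simple 2) (f ⟨2, by omega⟩ : Kˣ) * T.sH K (T.simple 4) (f ⟨4, by omega⟩ : Kˣ)) := by
  have hdec : f = Pi.mulSingle (⟨0, by omega⟩ : Fin T.rank) (f ⟨0, by omega⟩) *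
      Pi.mulSingle (⟨5, by omega⟩ : Fin T.rank) (f ⟨5, by omega⟩) *
      (Pi.mulSingle (⟨2, by omega⟩ : Fin T.rank) (f ⟨2, by omega⟩) *
        Pi.mulSingle (⟨4, by omega⟩ : Fin T.rank) (f ⟨4, by omega⟩)) := by
    funext ⟨v, hv⟩
    have : v < 6 := hr ▸ hv
    interval_cases v <;> simp [Fin.ext_iff, h1, h3]
  conv_lhs => rw [hdec]
  simp only [map_mul, sTorus_single]

/-- A triple cover. -/
theorem exists_cover (hdiv : 3 ∣ q + 1) :
    ∃ (X : Type u) (_ : Group X) (ξ : X →* ↥(SS).fix), Cfsg.IsStemExtension ξ ∧ Nat.card ξ.ker = 3 := by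
  classical
  haveI := Fintype.ofFinite K
  have hO := Twist.E6.stOk
  have hT := hO.valid
  obtain ⟨p, k, hp, hk0, hpk⟩ := (isPrimePow_nat_iff q).1 hq
  haveI := Fact.mk hp
  have hp3 : p ≠ 3 := by
    rintro rfl
    have h3q : 3 ∣ q := hpk ▸ dvd_pow_self 3 hk0.ne'
    have := Nat.dvd_sub hdiv h3q
    simp at this
  have hcp : CharP K p := by
    obtain ⟨r, hr⟩ := CharP.exists K
    obtain ⟨n, hr', e⟩ := @FiniteField.card K _ _ r hr
    rw [← Nat.card_eq_fintype_card, hK, ← hpk, ← pow_mul] at e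
    have hd' : p ∣ r ^ (n : ℕ) := by rw [← e]; exact dvd_pow_self p (Nat.mul_ne_zero hk0.ne' (by norm_num))
    have hpr : p = r := (Nat.prime_dvd_prime_iff_eq hp hr').1 (hp.dvd_of_dvd_pow hd')
    exact hpr ▸ hr
  set P : Subgroup ((TT).datum.SteinbergGroup K) := (SS).fix.comap (hO.hom K) with hP
  let π₀ : ↥P →* ↥(SS).fix := ((hO.hom K).comp P.subtype).codRestrict _ fun x => x.2
  have hsurj : Function.Surjective π₀ := fun g => by
    obtain ⟨x, hx⟩ := stProj_surjective hO (⟨g.1, g.2.1⟩ : ↥((TT).datum.group K))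
    have hx' : hO.hom K x = g.1 := congrArg Subtype.val hx
    exact ⟨⟨x, by show hO.hom K x ∈ (SS).fix; rw [hx']; exact g.2⟩, Subtype.ext hx'⟩
  have hker : π₀.ker ≤ Subgroup.center ↥P := by
    intro x hx
    have h1 : (x : (TT).datum.SteinbergGroup K) ∈ Subgroup.center _ := by
      rw [← stProj_ker hO]
      exact Subtype.ext (congrArg Subtype.val hx : _)
    exact Subgroup.mem_center_iff.mpr fun y => Subtype.ext (Subgroup.mem_center_iff.mp h1 y.1)
  have hcard : Nat.card π₀.ker = 3 := by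
    have hc := card_center (F := K) (q := q ^ 2) (by rw [← Nat.card_eq_fintype_card, hK]) hO
      (sTorus_inj (K := K)) Data.E6.chkSmith
    have e : Nat.card π₀.ker = Nat.card (Subgroup.center ((TT).datum.SteinbergGroup K)) := by
      rw [← stProj_ker hO]
      refine Nat.card_congr
        { toFun := fun x => ⟨x.1.1, Subtype.ext (congrArg Subtype.val x.2 :)⟩
          invFun := fun x => ⟨⟨x.1, ?_⟩, Subtype.ext (congrArg Subtype.val x.2 :)⟩
          left_inv := fun x => rfl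
          right_inv := fun x => rfl }
      show hO.hom K x.1 ∈ (SS).fix
      rw [show hO.hom K x.1 = 1 from congrArg Subtype.val x.2]
      exact one_mem _
    rw [e, hc]
    show (∏ i : Fin 6, _) = _
    simp [Fin.prod_univ_succ]
    rw [Nat.gcd_comm]
    refine Nat.gcd_eq_left (hdiv.trans ⟨q - 1, ?_⟩)
    rw [← Nat.sq_sub_sq, one_pow]
  set D : Subgroup ↥P := commutator ↥P with hD
  have hperf : commutator ↥(SS).fix = ⊤ := by
    rw [← Twist.E6.G_eq hq hK]; exact Twist.E6.perfect hq hK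
  have hDmap : D.map π₀ = ⊤ := by
    rw [hD, _root_.commutator_def, Subgroup.map_commutator, Subgroup.map_top_of_surjective π₀ hsurj,
      ← _root_.commutator_def, hperf]
  have hsup : D.subtype.range ⊔ Subgroup.center ↥P = ⊤ := by
    refine CfsgLib.Schur.Basic.range_sup_center_eq_top (π₀.comp D.subtype) ?_ π₀ hker D.subtype rfl
    intro g
    obtain ⟨d, hd, e⟩ := hDmap.ge (Subgroup.mem_top g)
    exact ⟨⟨d, hd⟩, e⟩
  have hDD : D ≤ (commutator ↥D).map D.subtype :=
    CfsgLib.Schur.Basic.commutator_le_map_of_sup_center D.subtype hsup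
  -- root elements of an orbit lie in the commutator subgroup
  have hmemD : ∀ e : ↥P, e ^ p = 1 → e ∈ D := by
    intro e he
    obtain ⟨d, hd, ed⟩ := hDmap.ge (Subgroup.mem_top (π₀ e))
    have hz : d⁻¹ * e ∈ π₀.ker := by rw [MonoidHom.mem_ker, map_mul, map_inv, ed, inv_mul_cancel]
    have hz3 : (d⁻¹ * e) ^ 3 = 1 := by
      have h := pow_card_eq_one' (x := (⟨_, hz⟩ : π₀.ker))
      rw [hcard] at h
      exact congrArg Subtype.val h
    have hc : Commute d (d⁻¹ * e) := (Subgroup.mem_center_iff.mp (hker hz) d)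
    have h3 : e ^ 3 ∈ D := by
      rw [show e = d * (d⁻¹ * e) by group, hc.mul_pow, hz3, mul_one]
      exact pow_mem hd 3
    have hcop : Nat.Coprime 3 p := (Nat.coprime_primes Nat.prime_three hp).mpr (Ne.symm hp3)
    have hg : e ^ ((3 : ℤ) * Nat.gcdA 3 p + (p : ℤ) * Nat.gcdB 3 p) = e := by
      rw [← Nat.cast_ofNat (n := 3), ← Nat.gcd_eq_gcd_ab, hcop.gcd_eq_one, Nat.cast_one, zpow_one]
    rw [← hg, zpow_add, zpow_mul, zpow_mul, zpow_natCast, he, one_zpow, mul_one]
    exact zpow_mem (by rw [zpow_ofNat]; exact h3) _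
  set D' : Subgroup ((TT).datum.SteinbergGroup K) := D.map P.subtype with hD'
  -- the orbits
  have orb : ∀ r r' : ℕ, r < 72 → r' < 72 → r' ≠ r → (GR).ρ r = r' → (GR).ε r = 1 →
      r' ≠ (TT).neg r → (TT).commT r r' = [] →
      ∀ t : K, (TT).sX K r t * (TT).sX K r' (σ t) ∈ D' := by
    intro r r' hr hr' hne hρ hε hneg hnil t
    have hc : ∀ a b : K, Commute ((TT).sX K r' b) ((TT).sX K r a) := by
      intro a b
      have h := scomm (F := K) hT (hn ▸ hr) (hn ▸ hr') hne hneg a b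
      rw [hnil] at h
      show _ = _
      simpa using h
    have hfix : hO.hom K ((TT).sX K r t * (TT).sX K r' (σ t)) ∈ (SS).fix := by
      rw [map_mul, hom_sX hO (hn ▸ hr), hom_sX hO (hn ▸ hr')]
      have h := E_fix hq hK hr (by rw [hρ]; exact hne) t
      rwa [E, hρ, hε, Int.cast_one, one_mul] at h
    refine ⟨⟨_, hfix⟩, hmemD _ (Subtype.ext ?_), rfl⟩
    show ((TT).sX K r t * (TT).sX K r' (σ t)) ^ p = 1
    have hpow : ∀ s < 72, ∀ (a : K) (n : ℕ), (TT).sX K s a ^ n = (TT).sX K s ((n : K) * a) := by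
      intro s hs a n
      induction n with
      | zero => rw [pow_zero, Nat.cast_zero, zero_mul, sX_zero hT (hn ▸ hs)]
      | succ n ih => rw [pow_succ, ih, sX_add hT (hn ▸ hs), Nat.cast_succ, add_one_mul]
    rw [(hc t (σ t)).symm.mul_pow, hpow r hr, hpow r' hr', CharP.cast_eq_zero K p, zero_mul, zero_mul,
      sX_zero hT (hn ▸ hr), sX_zero hT (hn ▸ hr'), one_mul]
  -- the torus elements of the orbits
  have hH : ∀ r r' : ℕ, r < 72 → r' < 72 → (∀ a ∈ [r, (TT).neg r], ∀ b ∈ [r', (TT).neg r'],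
        a < 72 ∧ b < 72 ∧ b ≠ a ∧ b ≠ (TT).neg a ∧ (TT).commT a b = []) →
      (GR).ρ r = r' → (GR).ε r = 1 → (GR).ρ ((TT).neg r) = (TT).neg r' → (GR).ε ((TT).neg r) = 1 →
      ∀ c : K, (TT).sH K r c * (TT).sH K r' (σ c) ∈ D' := by
    intro r r' hr hr' hall hρ hε hρ' hε' c
    have hc : ∀ a ∈ [r, (TT).neg r], ∀ b ∈ [r', (TT).neg r'], ∀ x y : K,
        Commute ((TT).sX K b y) ((TT).sX K a x) := by
      intro a ha b hb x y
      obtain ⟨h1, h2', h3, h4, h5⟩ := hall a ha b hb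
      have h := scomm (F := K) hT (hn ▸ h1) (hn ▸ h2') h3 h4 x y
      rw [h5] at h
      show _ = _
      simpa using h
    obtain ⟨-, -, hne, hneg, hnil⟩ := hall r (by simp) r' (by simp)
    obtain ⟨hnr, hnr', hne', hneg', hnil'⟩ := hall ((TT).neg r) (by simp) ((TT).neg r') (by simp)
    have hN : ∀ a : K, (TT).sN K r a * (TT).sN K r' (σ a) ∈ D' := by
      intro a
      have e : (TT).sN K r a * (TT).sN K r' (σ a) =
          ((TT).sX K r a * (TT).sX K r' (σ a)) *
            ((TT).sX K ((TT).neg r) (-a⁻¹) * (TT).sX K ((TT).neg r') (σ (-a⁻¹))) *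
            ((TT).sX K r a * (TT).sX K r' (σ a)) := by
        rw [map_neg, map_inv₀, sN, sN, Commute.mul_mul_mul_comm (hc ((TT).neg r) (by simp) r' (by simp) _ _),
          Commute.mul_mul_mul_comm ((hc r (by simp) r' (by simp) _ _).mul_left
            (hc r (by simp) ((TT).neg r') (by simp) _ _))]
      rw [e]
      exact mul_mem (mul_mem (orb r r' hr hr' hne hρ hε hneg hnil a)
        (orb _ _ hnr hnr' hne' hρ' hε' hneg' hnil' _)) (orb r r' hr hr' hne hρ hε hneg hnil a)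
    have hNc : ∀ a b : K, Commute ((TT).sN K r' b) ((TT).sN K r a) := by
      intro a b
      have h1 : ∀ x ∈ [r, (TT).neg r], ∀ v : K, Commute ((TT).sN K r' b) ((TT).sX K x v) := fun x hx v =>
        ((hc x hx r' (by simp) _ _).mul_left (hc x hx _ (by simp) _ _)).mul_left (hc x hx r' (by simp) _ _)
      exact ((h1 r (by simp) _).mul_right (h1 _ (by simp) _)).mul_right (h1 r (by simp) _)
    rw [sH, sH, (hNc (-1) (σ c)).symm.mul_mul_mul_comm]
    have := mul_mem (hN c) (hN (-1))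
    rwa [map_neg, map_one] at this
  -- a nontrivial element of the kernel
  obtain ⟨a, ha3, ha1⟩ : ∃ a : Kˣ, a ^ 3 = 1 ∧ a ≠ 1 := by
    have hd3 : 3 ∣ Nat.card K - 1 := by
      rw [hK]; exact hdiv.trans ⟨q - 1, by rw [← Nat.sq_sub_sq, one_pow]⟩
    have h := Twist.card_units_pow_eq_one (K := K) hd3
    by_contra hall
    push Not at hall
    haveI : Subsingleton {c : Kˣ // c ^ 3 = 1} :=
      ⟨fun x y => Subtype.ext ((hall x.1 x.2).trans (hall y.1 y.2).symm)⟩
    rw [Nat.card_of_subsingleton (⟨1, one_pow 3⟩ : {c : Kˣ // c ^ 3 = 1})] at h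
    norm_num at h
  have hf := (Twist.E6.mem_kerFix hq hK (g := (![a, 1, a ^ 2, 1, (a ^ 2) ^ q, a ^ q] : Fin 6 → Kˣ))).mpr
    ⟨a, by rw [Nat.gcd_eq_left hdiv]; exact ha3, rfl⟩
  set f : Fin (TT).rank → Kˣ := (![a, 1, a ^ 2, 1, (a ^ 2) ^ q, a ^ q] : Fin 6 → Kˣ) with hf'
  have hne : sTorus hO f ≠ 1 := by
    intro h
    rw [← map_one (sTorus (F := K) hO)] at h
    exact ha1 (congrFun (sTorus_inj (K := K) h) (0 : Fin 6))
  have hzD : sTorus hO f ∈ D' := by
    refine (show ∀ g : Fin (TT).rank → Kˣ, g (1 : Fin 6) = 1 → g (3 : Fin 6) = 1 →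
        g (5 : Fin 6) = g (0 : Fin 6) ^ q → g (4 : Fin 6) = g (2 : Fin 6) ^ q →
        sTorus (T := TT) hO g ∈ D' from ?_) f rfl rfl rfl rfl
    intro g h1 h3 h5 h4
    rw [sTorus_four (q := q) hO (show (TT).rank = 6 from rfl) g h1 h3]
    have k : ∀ i j : ℕ, (i = 0 ∧ j = 5) ∨ (i = 2 ∧ j = 4) → ∀ c : K,
        (TT).sH K ((TT).simple i) c * (TT).sH K ((TT).simple j) (σ c) ∈ D' := by
      intro i j hij c
      rcases hij with ⟨rfl, rfl⟩ | ⟨rfl, rfl⟩ <;>
        exact hH _ _ (by decide +kernel) (by decide +kernel) (by decide +kernel) (by decide +kernel)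
          (by decide +kernel) (by decide +kernel) (by decide +kernel) _
    have e : ∀ b : Kˣ, ((b ^ q : Kˣ) : K) = σ (b : K) := fun b => by
      rw [Units.val_pow_eq_pow_val, Twist.E6.fq_apply]
    refine mul_mem ?_ ?_
    · refine (congrArg (fun x : Kˣ => (TT).sH K ((TT).simple 0) ((g (0 : Fin 6) : Kˣ) : K) * (TT).sH K ((TT).simple 5) (x : K) ∈ D') h5).mpr ?_
      rw [e]; exact k 0 5 (Or.inl ⟨rfl, rfl⟩) _
    · refine (congrArg (fun x : Kˣ => (TT).sH K ((TT).simple 2) ((g (2 : Fin 6) : Kˣ) : K) * (TT).sH K ((TT).simple 4) (x : K) ∈ D') h4).mpr ?_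
      rw [e]; exact k 2 4 (Or.inr ⟨rfl, rfl⟩) _
  obtain ⟨z, hzmem, hzeq⟩ := hzD
  have hz : z ∈ π₀.ker := by
    refine Subtype.ext ?_
    show hO.hom K z.1 = 1
    rw [show z.1 = sTorus hO f from hzeq, hom_sTorus]
    exact hf.1
  have hkD : π₀.ker ≤ D := by
    haveI : Fact (Nat.card π₀.ker).Prime := ⟨hcard ▸ Nat.prime_three⟩
    rcases (D.subgroupOf π₀.ker).eq_bot_or_eq_top_of_prime_card with h | h
    · exfalso
      have : (⟨z, hz⟩ : π₀.ker) = 1 := Subgroup.mem_bot.mp (h ▸ Subgroup.mem_subgroupOf.mpr hzmem)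
      apply hne
      rw [← hzeq, show z = 1 from congrArg Subtype.val this]
      rfl
    · exact Subgroup.subgroupOf_eq_top.mp h
  refine ⟨↥D, inferInstance, π₀.comp D.subtype, ⟨?_, ?_, ?_⟩, ?_⟩
  · intro g
    obtain ⟨d, hd, e⟩ := hDmap.ge (Subgroup.mem_top g)
    exact ⟨⟨d, hd⟩, e⟩
  · intro x hx
    exact Subgroup.mem_center_iff.mpr fun y => Subtype.ext (Subgroup.mem_center_iff.mp (hker hx) y.1)
  · intro x _
    obtain ⟨y, hy, e⟩ := hDD x.2
    rwa [Subtype.ext e] at hy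
  · rw [← hcard]
    exact Nat.card_congr
      { toFun := fun x => ⟨x.1.1, x.2⟩
        invFun := fun x => ⟨⟨x.1, hkD x.2⟩, x.2⟩
        left_inv := fun x => rfl
        right_inv := fun x => rfl }

end CfsgLib.KnownA.E6Multiplier
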