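import Cfsg.Agent.Lib.KnownA.E6Multiplier.Positive
import Cfsg.Agent.Lib.KnownA.E6Multiplier.Lower
import Cfsg.Agent.Lib.KnownA.TwistMultiplier.Bound
import Cfsg.Agent.Lib.Schur.Bound
import Mathlib.GroupTheory.Perm.Cycle.Type

/-!
The Schur multiplier of ²E₆(q), q ≥ 3, is cyclic of order gcd(3, q + 1).
-/

set_option autoImplicit false
set_option maxRecDepth 20000
set_option maxHeartbeats 800000
set_option linter.unusedSectionVars false
set_option Elab.async false

namespace CfsgLib.KnownA.E6Multiplier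

open CfsgLib.Chevalley CfsgLib.Chevalley.Tbl CfsgLib.KnownA.SteinbergUniv
open CfsgLib.Chevalley.Twist.E6 (setup mem_kerFix mem_tauFix stOk)

/-- The torus element of an orbit is the product of the reflections of the orbit. -/
theorem torusHom_orb {T : Tbl} {F : Type*} [Field F] (A : AbSetup T F) {j : ℕ} (hj : j < A.o) (c : Fˣ) :
    torusHom T F (A.orbTorus j c) = TwistMultiplier.cycH A.D (A.L j) (c : F) := by
  obtain ⟨hab, -, hi, -⟩ := A.facts hj
  rw [AbSetup.orbTorus, map_list_prod, List.map_map, TwistMultiplier.cycH_eq A.D hab, A.length_L]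
  refine congrArg List.prod (List.map_congr_left fun e he => ?_)
  have he' := List.mem_range.mp he
  have hlt := hi _ (List.getElem_mem (h := he'))
  simp only [Function.comp_apply, List.getD_eq_getElem _ _ he', dif_pos hlt,
    torusHom_single A.D.ok.valid, AbSetup.L, simples,
    List.getD_eq_getElem _ _ (show e < ((A.Ss.getD j []).map T.simple).length by simpa using he'),
    List.getElem_map]

variable {K : Type*} [Field K] [Finite K] {q : ℕ} (hq : IsPrimePow q) (hK : Nat.card K = q ^ 2)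

local notation "SS" => AbSetup.S (Twist.E6.setup hq hK)

/-- A product of orbit torus elements acting trivially. -/
theorem orbit_ker (c : ∀ j : Fin (setup hq hK).o, ↥(TwistMultiplier.par (setup hq hK) j))
    (hc : ∀ j, c j ≠ 0)
    (h : ((List.finRange (setup hq hK).o).map fun j : Fin (setup hq hK).o =>
      TwistMultiplier.cycH (setup hq hK).D ((setup hq hK).L j) (c j : K)).prod = 1) :
    ∃ a : Kˣ, a ^ Nat.gcd 3 (q + 1) = 1 ∧ (c (0 : Fin 4) : K) = 1 ∧ (c (1 : Fin 4) : K) = 1 ∧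
      (c (2 : Fin 4) : K) = a ∧ (c (3 : Fin 4) : K) = (a : K) ^ 2 := by
  let j0 : Fin (setup hq hK).o := (0 : Fin 4)
  let j1 : Fin (setup hq hK).o := (1 : Fin 4)
  let j2 : Fin (setup hq hK).o := (2 : Fin 4)
  let j3 : Fin (setup hq hK).o := (3 : Fin 4)
  have hne : ∀ j, (c j : K) ≠ 0 := fun j => fun e => hc j (Subtype.ext e)
  set u : Fin (setup hq hK).o → Kˣ := fun j => Units.mk0 (c j : K) (hne j) with hu
  set f := (setup hq hK).orbTorus 0 (u j0) * ((setup hq hK).orbTorus 1 (u j1) *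
    ((setup hq hK).orbTorus 2 (u j2) * (setup hq hK).orbTorus 3 (u j3))) with hfdef
  have h' : torusHom Data.E6.tbl K f = 1 := by
    rw [hfdef, map_mul, map_mul, map_mul, torusHom_orb _ (show 0 < (setup hq hK).o from Nat.zero_lt_succ _),
      torusHom_orb _ (show 1 < (setup hq hK).o from (by norm_num : 1 < 4)),
      torusHom_orb _ (show 2 < (setup hq hK).o from (by norm_num : 2 < 4)),
      torusHom_orb _ (show 3 < (setup hq hK).o from (by norm_num : 3 < 4))]
    refine Eq.trans ?_ h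
    rw [show List.finRange (setup hq hK).o = [j0, j1, j2, j3] from rfl]
    simp only [List.map_cons, List.map_nil, List.prod_cons, List.prod_nil, mul_one, hu, Units.val_mk0]
    rfl
  let g : Fin 6 → Kˣ := Pi.mulSingle (1 : Fin 6) (u j0) * (Pi.mulSingle (3 : Fin 6) (u j1) *
    (Pi.mulSingle (0 : Fin 6) (u j2) * Pi.mulSingle (5 : Fin 6) (u j2 ^ q) *
      (Pi.mulSingle (2 : Fin 6) (u j3) * Pi.mulSingle (4 : Fin 6) (u j3 ^ q))))
  have ef : f = g := by
    rw [hfdef, Twist.E6.orbTorus0, Twist.E6.orbTorus1, Twist.E6.orbTorus2, Twist.E6.orbTorus3]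
    rfl
  have g0 : g 0 = u j2 := by simp [g]
  have g1 : g 1 = u j0 := by simp [g]
  have g2 : g 2 = u j3 := by simp [g]
  have g3 : g 3 = u j1 := by simp [g]
  have g4 : g 4 = u j3 ^ q := by simp [g]
  have g5 : g 5 = u j2 ^ q := by simp [g]
  have hfx : ∀ j : Fin (setup hq hK).o, ((Twist.E6.orbs).getD j.val []).length = 1 → u j ^ q = u j := by
    intro j hj
    apply Units.ext
    rw [Units.val_pow_eq_pow_val]
    exact (Twist.E6.fit_single hq hK hj _).mp (TwistMultiplier.mem_par (setup hq hK) |>.mp (c j).2)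
  have hf : f ∈ (torusHom Data.E6.tbl K).ker ⊓ (setup hq hK).D.tauFix := by
    refine ⟨MonoidHom.mem_ker.mpr h', (mem_tauFix hq hK).mpr ⟨?_, ?_, ?_, ?_⟩⟩
    · exact (congrArg (· ^ q) ((congrFun ef (1 : Fin 6)).trans g1)).trans
        ((hfx j0 rfl).trans ((congrFun ef (1 : Fin 6)).trans g1).symm)
    · exact (congrArg (· ^ q) ((congrFun ef (3 : Fin 6)).trans g3)).trans
        ((hfx j1 rfl).trans ((congrFun ef (3 : Fin 6)).trans g3).symm)
    · exact ((congrFun ef (5 : Fin 6)).trans g5).trans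
        (congrArg (· ^ q) ((congrFun ef (0 : Fin 6)).trans g0)).symm
    · exact ((congrFun ef (4 : Fin 6)).trans g4).trans
        (congrArg (· ^ q) ((congrFun ef (2 : Fin 6)).trans g2)).symm
  obtain ⟨a, ha, e⟩ := (mem_kerFix hq hK).mp hf
  have e' : g = (![a, 1, a ^ 2, 1, (a ^ 2) ^ q, a ^ q] : Fin 6 → Kˣ) := ef.symm.trans e
  refine ⟨a, ha, ?_, ?_, ?_, ?_⟩
  · exact congrArg Units.val (g1.symm.trans (congrFun e' 1))
  · exact congrArg Units.val (g3.symm.trans (congrFun e' 3))
  · exact congrArg Units.val (g0.symm.trans (congrFun e' 0))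
  · exact (congrArg Units.val (g2.symm.trans (congrFun e' 2))).trans (Units.val_pow_eq_pow_val a 2)

theorem orbit_single (j : Fin (setup hq hK).o) (x : ↥(TwistMultiplier.par (setup hq hK) j)) (hx : x ≠ 0)
    (h : TwistMultiplier.cycH (setup hq hK).D ((setup hq hK).L j) (x : K) = 1) : x = 1 := by
  classical
  let c : ∀ i : Fin (setup hq hK).o, ↥(TwistMultiplier.par (setup hq hK) i) := Function.update (fun _ => 1) j x
  have hone : ∀ i : Fin (setup hq hK).o, TwistMultiplier.cycH (setup hq hK).D ((setup hq hK).L i) (1 : K) = 1 := by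
    intro i
    rw [← Units.val_one, ← torusHom_orb _ i.2]
    have : (setup hq hK).orbTorus i.val (1 : Kˣ) = 1 := by
      refine List.prod_eq_one fun y hy => ?_
      obtain ⟨e, -, rfl⟩ := List.mem_map.mp hy
      split
      · exact Pi.mulSingle_eq_one_iff.mpr (Function.iterate_fixed (map_one _) e)
      · rfl
    rw [this, map_one]
  obtain ⟨a, ha, e0, e1, e2, e3⟩ := orbit_ker hq hK c (fun i => by
      rcases eq_or_ne i j with rfl | hne <;> simp [c, *])
    (List.prod_eq_one fun y hy => by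
      obtain ⟨i, -, rfl⟩ := List.mem_map.mp hy
      rcases eq_or_ne i j with rfl | hne
      · simpa [c] using h
      · simp only [c, Function.update_of_ne hne]; exact hone i)
  have hcj : c j = x := Function.update_self ..
  have hoth : ∀ i, i ≠ j → (c i : K) = 1 := fun i hi => by simp [c, Function.update_of_ne hi]
  have a3 : (a : K) ^ 3 = 1 := by
    rw [← Units.val_pow_eq_pow_val, ← Units.val_one]
    exact congrArg Units.val (orderOf_dvd_iff_pow_eq_one.mp
      ((orderOf_dvd_of_pow_eq_one ha).trans (Nat.gcd_dvd_left 3 (q + 1))))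
  have a1 : (a : K) = 1 := by
    by_cases hj : j = (2 : Fin 4)
    · have h3 := (hoth (3 : Fin 4) (by rw [hj]; exact (by decide : (3 : Fin 4) ≠ 2))).symm.trans e3
      rw [pow_succ, ← h3, one_mul] at a3
      exact a3
    · exact e2.symm.trans (hoth _ (fun e => hj e.symm))
  apply Subtype.ext
  rw [← hcj]
  have key : ∀ i : Fin (setup hq hK).o, i = (0 : Fin 4) ∨ i = (1 : Fin 4) ∨ i = (2 : Fin 4) ∨ i = (3 : Fin 4) :=
    (by decide : ∀ i : Fin 4, i = 0 ∨ i = 1 ∨ i = 2 ∨ i = 3)
  rcases key j with rfl | rfl | rfl | rfl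
  · exact e0
  · exact e1
  · exact e2.trans a1
  · exact e3.trans (by rw [a1, one_pow]; rfl)

/-- Kernels of stem extensions have order at most gcd(3, q + 1). -/
theorem card_ker_le (h3 : 3 ≤ q) {Γ : Type*} [Group Γ] [Finite Γ] (s : Γ →* ↥(SS).fix)
    (hs : Cfsg.IsStemExtension s) : Nat.card s.ker ≤ Nat.gcd 3 (q + 1) := by
  classical
  haveI : Finite ↥(SS).fix := Finite.of_injective _ Subtype.val_injective
  obtain ⟨hsurj, hk, hd⟩ := hs
  set π : Γ →* GL (Data.E6.tbl).I K := (SS).fix.subtype.comp s with hπ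
  have hker : π.ker = s.ker := MonoidHom.ker_comp_of_injective _ _ Subtype.val_injective
  have hrange : π.range = (SS).fix := by
    rw [hπ, MonoidHom.range_comp, MonoidHom.range_eq_top.2 hsurj, ← MonoidHom.range_eq_map,
      Subgroup.range_subtype]
  have X : Cext hq hK π := ⟨hker ▸ hk, hrange⟩
  set U := TwistMultiplier.posFix (setup hq hK) with hU
  obtain ⟨p, k, hp, hk0, rfl⟩ := (isPrimePow_nat_iff q).1 hq
  haveI := Fact.mk hp
  have hcp : CharP K p := by
    have : Fintype K := Fintype.ofFinite K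
    obtain ⟨r, hr⟩ := CharP.exists K
    obtain ⟨n, hr', e⟩ := @FiniteField.card K _ _ r hr
    rw [← Nat.card_eq_fintype_card, hK, ← pow_mul] at e
    have hd' : p ∣ r ^ (n : ℕ) := by rw [← e]; exact dvd_pow_self p (Nat.mul_ne_zero hk0.ne' (by norm_num))
    have hpr : p = r := (Nat.prime_dvd_prime_iff_eq hp hr').1 (hp.dvd_of_dvd_pow hd')
    exact hpr ▸ hr
  have hindex : ¬ p ∣ (U.subgroupOf (AbSetup.S (setup hq hK)).fix).index := by
    intro hdvd
    have h1 := (U.subgroupOf (AbSetup.S (setup hq hK)).fix).card_mul_index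
    have h2 := ((setup hq hK).card_Upos (Twist.E6.hcard hq hK)).1
    rw [posUnipotent_rootGen Data.E6.valid, E6Sub.hh, inf_comm] at h2
    have hle : U ≤ (AbSetup.S (setup hq hK)).fix := inf_le_left
    rw [Nat.card_congr (Subgroup.subgroupOfEquivOfLe hle).toEquiv] at h1
    rw [show Nat.card ↥U = (p ^ k) ^ 36 by rw [hU, TwistMultiplier.posFix, E6Sub.hh]; exact h2] at h1
    have hc := Twist.E6.card_eq hq hK
    rw [Twist.E6.G_eq hq hK, ← h1, mul_left_comm] at hc
    simp only [mul_assoc] at hc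
    have hq1 : 1 ≤ p ^ k := Twist.E6.one_le hq
    replace hc := Nat.eq_of_mul_eq_mul_left (pow_pos hq1 36) hc
    have hdvd' : p ∣ Nat.gcd 3 (p ^ k + 1) * (U.subgroupOf (AbSetup.S (setup hq hK)).fix).index :=
      hdvd.mul_left _
    rw [hc, ← ZMod.natCast_eq_zero_iff] at hdvd'
    have hz : ((p ^ k : ℕ) : ZMod p) = 0 := by
      rw [Nat.cast_pow, ZMod.natCast_self, zero_pow (by omega)]
    simp only [Nat.cast_mul, Nat.cast_sub (Nat.one_le_pow _ _ hq1), Nat.cast_add, Nat.cast_pow (p ^ k),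
      hz, Nat.cast_one] at hdvd'
    simp at hdvd'
  have hkill : ∀ z : Γ, s z = 1 → z ^ (U.subgroupOf (AbSetup.S (setup hq hK)).fix).index = 1 := by
    intro z hz
    have h := CfsgLib.Schur.Bound.pow_index_mem s hsurj (U.subgroupOf (AbSetup.S (setup hq hK)).fix)
      (hk hz) (hd hz)
    have hz' : π (z ^ (U.subgroupOf (AbSetup.S (setup hq hK)).fix).index) = 1 := by
      rw [map_pow, show π z = 1 from congrArg Subtype.val hz, one_pow]
    exact X.pos_trivial h3 hz' h
  have hcop : p.Coprime (Nat.card π.ker) := by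
    rw [Nat.Prime.coprime_iff_not_dvd hp]
    intro hdvd
    obtain ⟨⟨z, hz⟩, hord⟩ := exists_prime_orderOf_dvd_card' p hdvd
    rw [Subgroup.orderOf_mk] at hord
    refine hindex ?_
    have h := orderOf_dvd_of_pow_eq_one (hkill z (Subtype.ext hz))
    rwa [hord] at h
  have Y : TwistMultiplier.TwExt (setup hq hK) π p := ⟨⟨X.ker_le, hcop⟩, hrange⟩
  have hmain := Y.card_le (Twist.E6.G_eq hq hK) (orbit_single hq hK) (hker ▸ hd)
  rw [hker] at hmain
  refine hmain.trans ?_
  set g := Nat.gcd 3 (p ^ k + 1)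
  have hdg : g ∣ Nat.card K - 1 := by
    rw [hK]
    refine (Nat.gcd_dvd_right 3 _).trans ⟨p ^ k - 1, ?_⟩
    rw [← Nat.sq_sub_sq, one_pow]
  refine le_of_le_of_eq ?_ (Twist.card_units_pow_eq_one (K := K) hdg)
  let j2 : Fin (setup hq hK).o := (2 : Fin 4)
  refine Nat.card_le_card_of_injective
    (fun c => (⟨Units.mk0 (c.1 j2 : K) (fun e => c.2.1 j2 (Subtype.ext e)), ?_⟩ : {x : Kˣ // x ^ g = 1})) ?_
  · obtain ⟨a, ha, -, -, e2, -⟩ := orbit_ker hq hK c.1 c.2.1 c.2.2
    rw [show Units.mk0 (c.1 j2 : K) _ = a from Units.ext e2]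
    exact ha
  · rintro ⟨c, hc⟩ ⟨d, hd'⟩ h
    have h2 : (c j2 : K) = d j2 := congrArg (fun x : {x : Kˣ // x ^ g = 1} => (x.1 : K)) h
    obtain ⟨a, -, a0, a1, a2, a3⟩ := orbit_ker hq hK c hc.1 hc.2
    obtain ⟨b, -, b0, b1, b2, b3⟩ := orbit_ker hq hK d hd'.1 hd'.2
    have hab : (a : K) = b := a2.symm.trans (h2.trans b2)
    have key : ∀ i : Fin (setup hq hK).o, i = (0 : Fin 4) ∨ i = (1 : Fin 4) ∨ i = (2 : Fin 4) ∨ i = (3 : Fin 4) :=
      (by decide : ∀ i : Fin 4, i = 0 ∨ i = 1 ∨ i = 2 ∨ i = 3)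
    refine Subtype.ext (funext fun i => Subtype.ext ?_)
    rcases key i with rfl | rfl | rfl | rfl
    · exact a0.trans b0.symm
    · exact a1.trans b1.symm
    · exact a2.trans (hab.trans b2.symm)
    · exact a3.trans (hab ▸ b3.symm)

include hq hK in
/-- The multiplier of `²E₆(q)`. -/
theorem twistedE6_hasCyclicSchurMultiplier (h3 : 3 ≤ q) :
    Cfsg.HasCyclicSchurMultiplier ↥(Cfsg.Lie.twistedE6 K q) (Nat.gcd 3 (q + 1)) := by
  refine Twist.E6.transfer hq hK (fun _ H => Cfsg.HasCyclicSchurMultiplier ↥H (Nat.gcd 3 (q + 1))) ?_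
  haveI : Finite ↥(SS).fix := Finite.of_injective _ Subtype.val_injective
  rcases (Nat.dvd_prime Nat.prime_three).1 (Nat.gcd_dvd_left 3 (q + 1)) with h | h
  · rw [h]
    refine CfsgLib.Schur.Basic.hasCyclicSchurMultiplier_one_of fun Γ _ _ s hs => ?_
    have := card_ker_le hq hK h3 s hs
    rw [h] at this
    exact Subgroup.eq_bot_of_card_le _ this
  · obtain ⟨X, hX, ξ, hξ, hcard⟩ := exists_cover hq hK (Nat.gcd_eq_left_iff_dvd.mp h)
    obtain ⟨e⟩ := center_mulEquiv (G := ξ.ker) (k := q + 1) Nat.prime_three (hcard.trans h.symm)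
    refine CfsgLib.Schur.Basic.hasSchurMultiplier_of_le ξ hξ e fun Γ _ _ s hs => ?_
    rw [Nat.card_congr Multiplicative.toAdd, Nat.card_zmod]
    exact card_ker_le hq hK h3 s hs

end CfsgLib.KnownA.E6Multiplier
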