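import Cfsg.Agent.Lib.KnownA.E6Multiplier.Roots
import Cfsg.Agent.Lib.KnownA.TwistMultiplier.Orbit
import Mathlib.FieldTheory.Finite.Basic

/-!
The preimage of the positive part of ²E₆(q), q ≥ 3, in a central extension: its commutators meet the
kernel trivially.
-/

set_option autoImplicit false
set_option maxRecDepth 20000
set_option Elab.async false
set_option linter.unusedSectionVars false

namespace CfsgLib.KnownA.E6Multiplier

open CfsgLib.Chevalley CfsgLib.Chevalley.Tbl CfsgLib.KnownA.E6Sub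
open CfsgLib.KnownA.D4Multiplier (Gl Sys bracket_congr commute_congr pair_commute conj_bracket commutator_inf_ker)
open scoped commutatorElement

variable {K : Type*} [Field K] [Finite K] {q : ℕ} (hq : IsPrimePow q) (hK : Nat.card K = q ^ 2)

local notation "TT" => Data.E6.tbl
local notation "xx" => Data.E6.tbl.xU K
local notation "GR" => Data.E6.graph
local notation "σ" => Twist.E6.fq hq hK
local notation "SS" => AbSetup.S (Twist.E6.setup hq hK)

/-- The six torus exponents. -/
def Vs : List (Fin 6 → ℤ) :=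
  [![-1, 1, 0, 0, 0, 0], ![-1, 0, 0, -1, 0, 0], ![-1, 0, -1, 1, 0, 0], ![0, 0, 0, 0, 0, -1],
    ![0, 0, 0, 0, -1, 0], ![0, 0, -1, -1, -1, -1]]

/-- Exponents of a weight different from one for every `q ≥ 3`. -/
abbrev Good (e : ℤ × ℤ) : Prop :=
  (-2 ≤ e.1 ∧ e.1 ≤ 2) ∧ (-2 ≤ e.2 ∧ e.2 ≤ 2) ∧ (e.1 + 3 * e.2) % 8 ≠ 0

theorem kill_cert : ∀ j k : Fin 24, j < k → ∃ v ∈ Vs,
    (wexp v (Rt j) = (0, 0) ∧ Good (wexp v (Rt k))) ∨ (wexp v (Rt k) = (0, 0) ∧ Good (wexp v (Rt j))) := by
  decide +kernel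

theorem move_cert : ∀ k : Fin 24, ∃ v ∈ Vs, Good (wexp v (Rt k)) := by decide +kernel

theorem wt_one (γ : Kˣ) {v : Fin 6 → ℤ} {r : ℕ} (h : wexp v r = (0, 0)) : wt q γ v r = 1 := by
  simp [wt, h]

include hK in
theorem wt_ne {γ : Kˣ} (hγ : orderOf γ = q ^ 2 - 1) (h3 : 3 ≤ q) {v : Fin 6 → ℤ} {r : ℕ}
    (h : Good (wexp v r)) : wt q γ v r ≠ 1 := by
  obtain ⟨⟨a1, a2⟩, ⟨b1, b2⟩, h8⟩ := h
  intro e
  set C := (wexp v r).1
  set Q := (wexp v r).2
  have e' : γ ^ (C + (q : ℤ) * Q) = 1 := by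
    rw [zpow_add, zpow_mul, zpow_natCast]; exact e
  have hd := orderOf_dvd_iff_zpow_eq_one.mpr e'
  have h1 : 1 ≤ q ^ 2 := Nat.one_le_pow _ _ (by omega)
  rw [hγ, Nat.cast_sub h1, Nat.cast_pow, Nat.cast_one] at hd
  rcases eq_or_lt_of_le h3 with rfl | h4
  · norm_num at hd
    omega
  have hq4 : (4 : ℤ) ≤ q := by exact_mod_cast h4
  have hb : |C + (q : ℤ) * Q| < (q : ℤ) ^ 2 - 1 := abs_lt.mpr ⟨by nlinarith, by nlinarith⟩
  have h0 := Int.eq_zero_of_abs_lt_dvd hd hb
  interval_cases Q <;> omega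

include hq hK in
theorem exists_gen : ∃ γ : Kˣ, orderOf γ = q ^ 2 - 1 := by
  obtain ⟨g, hg⟩ := IsCyclic.exists_ofOrder_eq_natCard (α := Kˣ)
  exact ⟨g, by rw [hg, Nat.card_units, hK]⟩

/-- Central extensions of ²E₆(q), given by a map to matrices. -/
structure Cext {E : Type*} [Group E] (π : E →* GL (Data.E6.tbl).I K) : Prop where
  ker_le : π.ker ≤ Subgroup.center E
  range_eq : π.range = (AbSetup.S (Twist.E6.setup hq hK)).fix

theorem El_rho {r : ℕ} (hr : r < 72) (hρ : (GR).ρ r ≠ r) (t : K) :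
    E hq hK r t = E hq hK ((GR).ρ r) (((GR).ε r : K) * σ t) := by
  obtain ⟨h1, h2', -, h4, -⟩ := rho_lt r hr
  rw [E, E, h2', map_mul, map_intCast, h2 hq hK, ← mul_assoc, ← Int.cast_mul, mul_comm ((GR).ε _), h4,
    Int.cast_one, one_mul, (pair_comm hr hρ t _).eq]

theorem El_commute {r s : ℕ} (hr : r < 72) (hs : s < 72)
    (h : ∀ a ∈ [r, (GR).ρ r], ∀ b ∈ [s, (GR).ρ s], b ≠ (TT).neg a ∧ (TT).commT a b = [])
    (t u : K) : Commute (El hq hK r t) (El hq hK s u) := by
  have hc : ∀ a ∈ [r, (GR).ρ r], a < 72 → ∀ b ∈ [s, (GR).ρ s], b < 72 → ∀ x y : K,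
      Commute (xx a x) (xx b y) := fun a ha ha' b hb hb' x y => by
    obtain ⟨h1, h2⟩ := h a ha b hb
    exact commute_xU Data.E6.valid Data.E6.chkComm (hn ▸ ha') (hn ▸ hb') h1 (by rw [h2]; simp) x y
  have hr' := (rho_lt r hr).1
  have hs' := (rho_lt s hs).1
  have hl : ∀ a ∈ [r, (GR).ρ r], a < 72 → ∀ x, Commute (xx a x) (El hq hK s u) := fun a ha ha' x => by
    unfold El E
    split
    · exact hc a ha ha' s (by simp) hs x u
    · exact (hc a ha ha' s (by simp) hs x _).mul_right (hc a ha ha' _ (by simp) hs' x _)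
  generalize hz : El hq hK s u = z at hl ⊢
  unfold El E
  split
  · exact hl r (by simp) hr t
  · exact (hl r (by simp) hr _).mul_left (hl _ (by simp) hr' _)

/-- The closure of the base roots under the graph and the reflections of the orbits. -/
def reach : ℕ → List ℕ
  | 0 => [71, 38]
  | k + 1 => ((reach k).flatMap fun r =>
      [r, Data.E6.graph.ρ r, act 0 r, act 1 r, act 2 r, act 3 r]).dedup

theorem reach_all : ∀ i : Fin 24, Rt i ∈ reach 12 := by decide +kernel

variable {hq hK} {E' : Type*} [Group E'] {π : E' →* GL (Data.E6.tbl).I K} (X : Cext hq hK π)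
include X

theorem Cext.lift {g : GL (TT).I K} (hg : g ∈ (SS).fix) : ∃ e, π e = g :=
  MonoidHom.mem_range.1 (X.range_eq ▸ hg)

theorem Cext.lift_el (i : Fin 24) {t : K} (ht : t ∈ pars hq hK i) : ∃ e, π e = el hq hK i t :=
  X.lift (el_fix hq hK i ht)

/-- Two commuting families have commuting lifts. -/
theorem Cext.cross (h3 : 3 ≤ q) {j k : Fin 24} (hne : j ≠ k)
    (hc : ∀ s t : K, Commute (el hq hK j s) (el hq hK k t)) {s t : K} (hs : s ∈ pars hq hK j)
    (ht : t ∈ pars hq hK k) {a b : E'} (ha : π a = el hq hK j s) (hb : π b = el hq hK k t) :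
    Commute a b := by
  obtain ⟨γ, hγ⟩ := exists_gen hq hK
  obtain ⟨v, hv⟩ : ∃ v, (wt q γ v (Rt j) = 1 ∧ wt q γ v (Rt k) ≠ 1) ∨
      (wt q γ v (Rt k) = 1 ∧ wt q γ v (Rt j) ≠ 1) := by
    rcases lt_or_gt_of_ne hne with h | h
    · obtain ⟨v, -, e⟩ := kill_cert j k h
      exact ⟨v, e.imp (fun e => ⟨wt_one γ e.1, wt_ne hK hγ h3 e.2⟩)
        (fun e => ⟨wt_one γ e.1, wt_ne hK hγ h3 e.2⟩)⟩
    · obtain ⟨v, -, e⟩ := kill_cert k j h
      exact ⟨v, e.symm.imp (fun e => ⟨wt_one γ e.1, wt_ne hK hγ h3 e.2⟩)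
        (fun e => ⟨wt_one γ e.1, wt_ne hK hγ h3 e.2⟩)⟩
  obtain ⟨h, hh⟩ := X.lift (tor_fix hq hK γ v)
  refine pair_commute X.ker_le (fun s _ t _ => el_add hq hK j s t) (fun s _ t _ => el_add hq hK k s t)
    (fun s _ t _ => hc s t) (fun s hs => X.lift_el j hs) (fun s hs => X.lift_el k hs) h _ _
    (wt_mem hq hK γ v (Rt_facts j).1) (wt_mem hq hK γ v (Rt_facts k).1)
    (fun s _ => by rw [hh]; exact tor_El hq hK γ v (Rt_facts j).1 s)
    (fun s _ => by rw [hh]; exact tor_El hq hK γ v (Rt_facts k).1 s) ?_ hs ht ha hb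
  simpa only [ne_eq, Units.val_eq_one] using hv

omit X in
/-- The lifts of the family of a root commute. -/
def Same (π : E' →* GL (Data.E6.tbl).I K) (r : ℕ) : Prop :=
  ∀ s ∈ Par hq hK r, ∀ t ∈ Par hq hK r, ∀ a b : E', π a = El hq hK r s → π b = El hq hK r t → Commute a b

theorem Cext.same_rho {r : ℕ} (hr : r < 72) (h : Same (hq := hq) (hK := hK) π r) :
    Same (hq := hq) (hK := hK) π ((GR).ρ r) := by
  by_cases hρ : (GR).ρ r = r
  · rwa [hρ]
  obtain ⟨h1, h2', -⟩ := rho_lt r hr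
  have hρ' : (GR).ρ ((GR).ρ r) ≠ (GR).ρ r := by rw [h2']; exact Ne.symm hρ
  intro s _ t _ a b ha hb
  rw [El_short hq hK hρ', El_rho hq hK h1 hρ', h2', ← El_short hq hK hρ] at ha hb
  exact h _ (mem_Par_short hq hK hρ _) _ (mem_Par_short hq hK hρ _) a b ha hb

theorem Cext.same_act {j r : ℕ} (hj : j < 4) (hr : r < 72) (h : Same (hq := hq) (hK := hK) π r) :
    Same (hq := hq) (hK := hK) π (act j r) := by
  obtain ⟨h1, h2', h3, h4, h5⟩ := act_rho j hj r hr
  have hiff : (GR).ρ (act j r) = act j r ↔ (GR).ρ r = r := by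
    refine ⟨fun e => ?_, fun e => ?_⟩
    · rw [← h2'] at e
      have := congrArg (act j) e
      rwa [(act_rho j hj _ (rho_lt r hr).1).2.2.2.1, h4] at this
    · rw [← h2', e]
  have hP : Par hq hK (act j r) = Par hq hK r := by unfold Par; simp only [hiff]
  obtain ⟨n, hn'⟩ := X.lift (nj_fix hq hK hj).1
  have hsq : ((sgn j r : ℤ) : K) * (sgn j r : ℤ) = 1 := by
    rw [← Int.cast_mul]; rcases h5 with e | e <;> simp [e]
  have key : ∀ u ∈ Par hq hK r, ∀ c : E', π c = El hq hK (act j r) u →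
      ∃ u' ∈ Par hq hK r, ∃ c', π c' = El hq hK r u' ∧ π c = π (n * c' * n⁻¹) := by
    intro u hu c hc
    have hu' : (sgn j r : K) * u ∈ Par hq hK r := mul_mem (intCast_mem _ _) hu
    obtain ⟨c', hc'⟩ := X.lift (El_fix hq hK hr hu')
    refine ⟨_, hu', c', hc', ?_⟩
    rw [map_mul, map_mul, map_inv, hn', hc', hc]
    by_cases hρ : (GR).ρ r = r
    · rw [El_long hq hK hρ, El_long hq hK (hiff.mpr hρ), nj_conj hj hr, ← mul_assoc, hsq, one_mul]
    · rw [El_short hq hK hρ, El_short hq hK (fun e => hρ (hiff.mp e)), nj_E hq hK hj hr, ← mul_assoc, hsq,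
        one_mul]
  intro s hs t ht a b ha hb
  rw [hP] at hs ht
  obtain ⟨s', hs', a', ha', ea⟩ := key s hs a ha
  obtain ⟨t', ht', b', hb', eb⟩ := key t ht b hb
  exact commute_congr X.ker_le ea eb ((Commute.conj_iff n).mpr (h s' hs' t' ht' a' b' ha' hb'))

theorem Cext.same_long (h3 : 3 ≤ q) : Same (hq := hq) (hK := hK) π 71 := by
  have f : Rt 0 = 71 ∧ Rt 1 = 70 ∧ Rt 22 = 46 := by decide
  have fρ : (GR).ρ 71 = 71 ∧ (GR).ρ 70 = 70 ∧ (GR).ρ 46 = 46 := by decide +kernel
  intro s hs t ht a b ha hb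
  obtain ⟨A, hA⟩ := X.lift_el 1 (t := -t) (by
    show -t ∈ Par hq hK (Rt 1)
    rw [f.2.1, mem_Par_long hq hK fρ.2.1, map_neg, (mem_Par_long hq hK fρ.1).mp ht])
  obtain ⟨B, hB⟩ := X.lift_el 22 (t := 1) (one_mem _)
  have hc : ∀ k : Fin 24, ∀ x y : K, k = 1 ∨ k = 22 → Commute (el hq hK 0 x) (el hq hK k y) := by
    intro k x y hk
    refine El_commute hq hK (Rt_facts 0).1 (Rt_facts k).1 ?_ x y
    rcases hk with rfl | rfl <;> decide +kernel
  have himg : π ⁅A, B⁆ = π b := by
    rw [map_commutatorElement, hA, hB, hb, el, el, f.2.1, f.2.2, El_long hq hK fρ.2.1,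
      El_long hq hK fρ.2.2, El_long hq hK fρ.1, commutatorElement_def]
    have e := comm_xU Data.E6.valid Data.E6.chkComm (T := TT) (F := K) (r := 46) (s := 70) (by decide +kernel)
      (by decide +kernel) (by norm_num) (by decide +kernel) 1 (-t)
    rw [show (TT).commT 46 70 = [(71, (1 : ℤ), 1, 1)] by decide +kernel] at e
    simp only [List.map_cons, List.map_nil, List.prod_cons, List.prod_nil, mul_one, pow_one, Int.cast_one,
      one_mul, neg_mul_neg, one_mul] at e
    have c1 : Commute (xx 46 (1 : K)) (xx 71 t) := commute_xU Data.E6.valid Data.E6.chkComm (by decide +kernel)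
      (by decide +kernel) (by decide +kernel) (by rw [show (TT).commT 46 71 = [] by decide +kernel]; simp) _ _
    have c2 : Commute (xx 70 (-t)) (xx 71 t) := commute_xU Data.E6.valid Data.E6.chkComm (by decide +kernel)
      (by decide +kernel) (by decide +kernel) (by rw [show (TT).commT 70 71 = [] by decide +kernel]; simp) _ _
    rw [e, ← ((c1.mul_left c2).symm).eq]
    group
  refine commute_congr X.ker_le rfl himg.symm ?_
  have ha' : π a = el hq hK 0 s := by rw [ha, el, f.1]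
  have hs' : s ∈ pars hq hK 0 := by rw [pars, f.1]; exact hs
  have hA' : Commute a A := X.cross h3 (by decide) (fun x y => hc 1 x y (Or.inl rfl)) hs' (by
    show -t ∈ Par hq hK (Rt 1)
    rw [f.2.1, mem_Par_long hq hK fρ.2.1, map_neg, (mem_Par_long hq hK fρ.1).mp ht]) ha' hA
  have hB' : Commute a B := X.cross h3 (by decide) (fun x y => hc 22 x y (Or.inr rfl)) hs' (one_mem _) ha' hB
  rw [commutatorElement_def]
  exact ((hA'.mul_right hB').mul_right hA'.inv_right).mul_right hB'.inv_right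

theorem Cext.same_short (h3 : 3 ≤ q) : Same (hq := hq) (hK := hK) π 38 := by
  have f : Rt 18 = 38 ∧ Rt 20 = 37 ∧ Rt 21 = 36 := by decide
  have fρ : (GR).ρ 38 = 57 ∧ (GR).ρ 37 = 42 ∧ (GR).ρ 36 = 56 ∧ (GR).ε 38 = -1 ∧ (GR).ε 37 = 1 ∧
      (GR).ε 36 = 1 := by decide +kernel
  have hs38 : (GR).ρ 38 ≠ 38 := by rw [fρ.1]; norm_num
  have hs37 : (GR).ρ 37 ≠ 37 := by rw [fρ.2.1]; norm_num
  have hs36 : (GR).ρ 36 ≠ 36 := by rw [fρ.2.2.1]; norm_num
  intro s hs t _ a b ha hb
  have ht36 : t ∈ pars hq hK 21 := by rw [pars, f.2.2]; exact mem_Par_short hq hK hs36 t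
  obtain ⟨A, hA⟩ := X.lift_el 21 ht36
  obtain ⟨B, hB⟩ := X.lift_el 20 (t := 1) (one_mem _)
  have hc : ∀ k : Fin 24, ∀ x y : K, k = 21 ∨ k = 20 → Commute (el hq hK 18 x) (el hq hK k y) := by
    intro k x y hk
    refine El_commute hq hK (Rt_facts 18).1 (Rt_facts k).1 ?_ x y
    rcases hk with rfl | rfl <;> decide +kernel
  have himg : π ⁅A, B⁆ = π b := by
    rw [map_commutatorElement, hA, hB, hb, el, el, f.2.1, f.2.2, El_short hq hK hs36,
      El_short hq hK hs37, El_short hq hK hs38, E, E, E, fρ.1, fρ.2.1, fρ.2.2.1, fρ.2.2.2.1,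
      fρ.2.2.2.2.1, fρ.2.2.2.2.2, Int.cast_one, one_mul, one_mul, map_one, Int.cast_neg, Int.cast_one,
      neg_one_mul, commutatorElement_def]
    have k0 : (([36, 37, 38, 42, 56, 57] : List ℕ).all fun r => decide (r < (TT).n)) = true := by
      decide +kernel
    have cm : ∀ r s : ℕ, r ∈ [36, 37, 38, 42, 56, 57] → s ∈ [36, 37, 38, 42, 56, 57] →
        s ≠ (TT).neg r → (TT).commT r s = [] → ∀ x y : K, Commute (xx r x) (xx s y) := by
      intro r s hr hs h1 h2
      simp only [List.all_eq_true, decide_eq_true_eq] at k0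
      exact commute_xU Data.E6.valid Data.E6.chkComm (k0 r hr) (k0 s hs) h1 (by rw [h2]; simp)
    have e1 : xx 36 t * xx 37 (1 : K) = xx 38 t * (xx 37 1 * xx 36 t) := by
      have e := comm_xU Data.E6.valid Data.E6.chkComm (T := TT) (F := K) (r := 37) (s := 36) (by decide +kernel)
        (by decide +kernel) (by norm_num) (by decide +kernel) 1 t
      rw [show (TT).commT 37 36 = [(38, (-1 : ℤ), 1, 1)] by decide +kernel] at e
      simp only [List.map_cons, List.map_nil, List.prod_cons, List.prod_nil, mul_one, pow_one,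
        Int.cast_neg, Int.cast_one, neg_mul_neg, one_mul] at e
      rw [e, ← ((cm 37 38 (by simp) (by simp) (by decide +kernel) (by decide +kernel) 1 t).mul_left
        (cm 36 38 (by simp) (by simp) (by decide +kernel) (by decide +kernel) t t)).eq]
    have e2 : xx 56 (σ t) * xx 42 (1 : K) = xx 57 (-σ t) * (xx 42 1 * xx 56 (σ t)) := by
      have e := comm_xU Data.E6.valid Data.E6.chkComm (T := TT) (F := K) (r := 42) (s := 56) (by decide +kernel)
        (by decide +kernel) (by norm_num) (by decide +kernel) 1 (σ t)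
      rw [show (TT).commT 42 56 = [(57, (1 : ℤ), 1, 1)] by decide +kernel] at e
      simp only [List.map_cons, List.map_nil, List.prod_cons, List.prod_nil, mul_one, pow_one,
        Int.cast_one, one_mul, neg_mul] at e
      rw [e, ← ((cm 42 57 (by simp) (by simp) (by decide +kernel) (by decide +kernel) 1 (-σ t)).mul_left
        (cm 56 57 (by simp) (by simp) (by decide +kernel) (by decide +kernel) (σ t) (-σ t))).eq]
    have a1 := cm 56 37 (by simp) (by simp) (by decide +kernel) (by decide +kernel) (σ t) 1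
    have a2 := cm 36 42 (by simp) (by simp) (by decide +kernel) (by decide +kernel) t 1
    have a3 := cm 37 57 (by simp) (by simp) (by decide +kernel) (by decide +kernel) 1 (-σ t)
    have a4 := cm 36 57 (by simp) (by simp) (by decide +kernel) (by decide +kernel) t (-σ t)
    rw [mul_inv_eq_iff_eq_mul, mul_inv_eq_iff_eq_mul]
    calc xx 36 t * xx 56 (σ t) * (xx 37 1 * xx 42 1)
        = xx 36 t * xx 37 1 * (xx 56 (σ t) * xx 42 1) := by
          rw [mul_assoc (xx 36 t), ← mul_assoc (xx 56 (σ t)), a1.eq]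
          simp only [mul_assoc]
      _ = xx 38 t * ((xx 37 1 * xx 36 t) * xx 57 (-σ t)) * (xx 42 1 * xx 56 (σ t)) := by
          rw [e1, e2]; simp only [mul_assoc]
      _ = xx 38 t * xx 57 (-σ t) * (xx 37 1 * (xx 36 t * xx 42 1) * xx 56 (σ t)) := by
          rw [(a3.mul_left a4).eq]; simp only [mul_assoc]
      _ = _ := by rw [a2.eq]; simp only [mul_assoc]
  refine commute_congr X.ker_le rfl himg.symm ?_
  have ha' : π a = el hq hK 18 s := by rw [ha, el, f.1]
  have hs' : s ∈ pars hq hK 18 := by rw [pars, f.1]; exact hs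
  have hA' : Commute a A := X.cross h3 (by decide) (fun x y => hc 21 x y (Or.inl rfl)) hs' ht36 ha' hA
  have hB' : Commute a B := X.cross h3 (by decide) (fun x y => hc 20 x y (Or.inr rfl)) hs' (one_mem _) ha' hB
  rw [commutatorElement_def]
  exact ((hA'.mul_right hB').mul_right hA'.inv_right).mul_right hB'.inv_right

/-- The lifts of each family commute. -/
theorem Cext.same_commute (h3 : 3 ≤ q) (i : Fin 24) : Same (hq := hq) (hK := hK) π (Rt i) := by
  have key : ∀ k, ∀ r ∈ reach k, r < 72 ∧ Same (hq := hq) (hK := hK) π r := by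
    intro k
    induction k with
    | zero =>
      intro r hr
      simp only [reach, List.mem_cons, List.not_mem_nil, or_false] at hr
      rcases hr with rfl | rfl
      · exact ⟨by norm_num, X.same_long h3⟩
      · exact ⟨by norm_num, X.same_short h3⟩
    | succ k ih =>
      intro r hr
      rw [reach, List.mem_dedup, List.mem_flatMap] at hr
      obtain ⟨s, hs, hr⟩ := hr
      obtain ⟨hs', hS⟩ := ih s hs
      simp only [List.mem_cons, List.not_mem_nil, or_false] at hr
      rcases hr with rfl | rfl | rfl | rfl | rfl | rfl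
      · exact ⟨hs', hS⟩
      · exact ⟨(rho_lt s hs').1, X.same_rho hs' hS⟩
      · exact ⟨(act_rho 0 (by norm_num) s hs').1, X.same_act (by norm_num) hs' hS⟩
      · exact ⟨(act_rho 1 (by norm_num) s hs').1, X.same_act (by norm_num) hs' hS⟩
      · exact ⟨(act_rho 2 (by norm_num) s hs').1, X.same_act (by norm_num) hs' hS⟩
      · exact ⟨(act_rho 3 (by norm_num) s hs').1, X.same_act (by norm_num) hs' hS⟩
  exact (key 12 _ (reach_all i)).2

/-- The commutators of the preimage of the positive part meet the kernel trivially. -/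
theorem Cext.pos_trivial (h3 : 3 ≤ q) {z : E'} (hz : π z = 1)
    (hd : z ∈ (commutator ((TwistMultiplier.posFix (Twist.E6.setup hq hK)).comap π)).map
      ((TwistMultiplier.posFix (Twist.E6.setup hq hK)).comap π).subtype) : z = 1 := by
  classical
  obtain ⟨γ, hγ⟩ := exists_gen hq hK
  choose i0 _ hgood using move_cert
  choose a ha using fun v : Fin 6 → ℤ => X.lift (tor_fix hq hK γ v)
  let l : Fin 24 → K → E' := fun k t => if h : t ∈ pars hq hK k then (X.lift_el k h).choose else 1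
  have hl : ∀ k, ∀ t ∈ pars hq hK k, π (l k t) = el hq hK k t := fun k t h => by
    simp only [l, dif_pos h]; exact (X.lift_el k h).choose_spec
  let m : Fin 24 → K := fun k => (wt q γ (i0 k) (Rt k) : K) - 1
  have hm : ∀ k, m k ≠ 0 := fun k =>
    sub_ne_zero.2 fun h => wt_ne hK hγ h3 (hgood k) (Units.val_eq_one.1 h)
  have hW : ∀ v k, (wt q γ v (Rt k) : K) ∈ pars hq hK k := fun v k => wt_mem hq hK γ v (Rt_facts k).1
  have hmP : ∀ k, ∀ t ∈ pars hq hK k, t / m k ∈ pars hq hK k := fun k t ht =>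
    div_mem ht (sub_mem (hW _ k) (one_mem _))
  have htor : ∀ v k s, tor q γ v * el hq hK k s = el hq hK k ((wt q γ v (Rt k) : K) * s) * tor q γ v :=
    fun v k s => tor_El hq hK γ v (Rt_facts k).1 s
  let y : Fin 24 → K → E' := fun k t => ⁅a (i0 k), l k (t / m k)⁆
  have himg : ∀ k, ∀ t ∈ pars hq hK k, π (y k t) = el hq hK k t := by
    intro k t ht
    rw [map_commutatorElement, ha, hl k _ (hmP k t ht), commutatorElement_def, htor,
      mul_inv_cancel_right, mul_inv_eq_iff_eq_mul, el_add]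
    congr 1
    have hm' := hm k
    show (wt q γ (i0 k) (Rt k) : K) * (t / m k) = t + t / m k
    field_simp
    simp only [m]
    ring
  have hsys : Sys (pars hq hK) (el hq hK) y a (fun v k => (wt q γ v (Rt k) : K)) π := by
    refine ⟨X.ker_le, himg, ?_, ?_, hW, ?_, ?_, ?_⟩
    · intro k s hs t ht
      have hs' := hmP k s hs
      have ht' := hmP k t ht
      have hc : Commute (l k (s / m k)) ⁅a (i0 k), l k (t / m k)⁆ :=
        X.same_commute h3 k _ hs' _ ht _ _ (hl k _ hs') (himg k t ht)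
      show ⁅a (i0 k), l k (s / m k)⁆ * ⁅a (i0 k), l k (t / m k)⁆ = ⁅a (i0 k), l k ((s + t) / m k)⁆
      rw [bracket_congr X.ker_le (a' := a (i0 k)) (b' := l k (s / m k) * l k (t / m k)) rfl
        (b := l k ((s + t) / m k)) (by
          rw [map_mul, hl k _ hs', hl k _ ht', el_add, hl k _ (hmP k _ (add_mem hs ht)), add_div])]
      rw [show ⁅a (i0 k), l k (s / m k) * l k (t / m k)⁆ = ⁅a (i0 k), l k (s / m k)⁆ *
          (l k (s / m k) * ⁅a (i0 k), l k (t / m k)⁆ * (l k (s / m k))⁻¹) by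
        simp only [commutatorElement_def]; group]
      rw [hc.eq, mul_inv_cancel_right]
    · intro v k t ht
      show a v * ⁅a (i0 k), l k (t / m k)⁆ * (a v)⁻¹ = ⁅a (i0 k), l k ((wt q γ v (Rt k) : K) * t / m k)⁆
      have hw : (wt q γ v (Rt k) : K) * t ∈ pars hq hK k := mul_mem (hW v k) ht
      rw [conj_bracket X.ker_le]
      refine bracket_congr X.ker_le ?_ ?_
      · rw [map_mul, map_mul, map_inv, ha, ha, tor_comm, mul_inv_cancel_right]
      · rw [map_mul, map_mul, map_inv, ha, hl k _ (hmP k t ht), hl k _ (hmP k _ hw), htor,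
          mul_inv_cancel_right, mul_div_assoc]
    · exact fun j k hjk t ht u hu => el_rule hq hK hjk ht hu
    · exact fun k t _ h => el_indep hq hK k h
    · intro j k hjk
      obtain ⟨v, -, e⟩ := kill_cert j k hjk
      refine ⟨v, e.imp (fun e => ?_) (fun e => ?_)⟩ <;>
        exact ⟨by simp only [wt_one γ e.1, Units.val_one],
          fun h => wt_ne hK hγ h3 e.2 (Units.val_eq_one.1 h)⟩
  refine commutator_inf_ker X.ker_le (hsys.inf_ker 24 le_rfl) ?_ hz hd
  rw [← hsys.Gl_eq]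
  intro g hg
  obtain ⟨hgf, hgp⟩ := Subgroup.mem_inf.mp hg
  refine fix_rem hq hK 24 le_rfl g (rootGen_mono (fun r _ h => ⟨?_, Nat.zero_le _⟩) hgp) hgf
  rw [E6Sub.hh] at h
  exact h

end CfsgLib.KnownA.E6Multiplier
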