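import Cfsg.Agent.Lib.KnownA.E6Sub.Coord
import Cfsg.Agent.Lib.Chevalley.CoxeterTorus.Main
import Cfsg.Agent.Lib.KnownA.D4Multiplier.Central

/-!
The 24 root families of the positive part of ²E₆(q): generation of the fixed points, commutator rules
and torus weights.
-/

set_option autoImplicit false
set_option maxRecDepth 20000
set_option Elab.async false
set_option linter.unusedSectionVars false

namespace CfsgLib.KnownA.E6Multiplier

open CfsgLib.Chevalley CfsgLib.Chevalley.Tbl CfsgLib.KnownA.E6Sub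
open CfsgLib.KnownA.D4Multiplier (Gl)

variable {K : Type*} [Field K] [Finite K] {q : ℕ} (hq : IsPrimePow q) (hK : Nat.card K = q ^ 2)

local notation "TT" => Data.E6.tbl
local notation "xx" => Data.E6.tbl.xU K
local notation "GR" => Data.E6.graph
local notation "σ" => Twist.E6.fq hq hK
local notation "SS" => AbSetup.S (Twist.E6.setup hq hK)
local notation "UU" => Tbl.rootGen Data.E6.tbl K (fun r => 36 ≤ r)

/-- The field with `q` elements. -/
noncomputable def fF : Subfield K :=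
  RingHom.eqLocusField (Twist.E6.fq hq hK).toRingHom (RingHom.id K)

theorem mem_fF {t : K} : t ∈ fF hq hK ↔ σ t = t := Iff.rfl

/-- The parameters of the family of a root. -/
noncomputable def Par (r : ℕ) : Subfield K :=
  if Data.E6.graph.ρ r = r then fF hq hK else ⊤

/-- The family of a root. -/
noncomputable def El (r : ℕ) (t : K) : GL (Data.E6.tbl).I K :=
  if Data.E6.graph.ρ r = r then Data.E6.tbl.xU K r t else E hq hK r t

/-- Representatives of the orbits, from the highest down. -/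
def Rt (i : Fin 24) : ℕ :=
  [71, 70, 69, 66, 55, 65, 54, 63, 52, 60, 53, 49, 45, 51, 48, 41, 44, 40, 38, 47, 37, 36, 46, 39].getD i.val 0

/-- Their families. -/
noncomputable abbrev el (i : Fin 24) : K → GL (Data.E6.tbl).I K := El hq hK (Rt i)

/-- Their parameters. -/
noncomputable abbrev pars (i : Fin 24) : Subfield K := Par hq hK (Rt i)

theorem Rt_facts : ∀ i : Fin 24, Rt i < 72 ∧ 36 ≤ Rt i ∧ rk (Rt i) = 23 - i.val ∧
    36 ≤ (GR).ρ (Rt i) ∧ rk ((GR).ρ (Rt i)) = 23 - i.val := by decide +kernel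

theorem Rt_cover : ∀ i : Fin 24, ∀ s < 72, 36 ≤ s → rk s = 23 - i.val → s = Rt i ∨ s = (GR).ρ (Rt i) := by
  decide +kernel

theorem rk_lt : ∀ s < 72, 36 ≤ s → rk s < 24 := by decide +kernel

theorem rk_rho : ∀ s < 72, 36 ≤ s → 36 ≤ (GR).ρ s ∧ rk ((GR).ρ s) = rk s := by decide +kernel

theorem El_long {r : ℕ} (hρ : (GR).ρ r = r) (t : K) : El hq hK r t = xx r t := if_pos hρ

theorem El_short {r : ℕ} (hρ : (GR).ρ r ≠ r) (t : K) : El hq hK r t = E hq hK r t := if_neg hρ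

theorem mem_Par_long {r : ℕ} (hρ : (GR).ρ r = r) {t : K} : t ∈ Par hq hK r ↔ σ t = t := by
  rw [Par, if_pos hρ]; exact mem_fF hq hK

theorem mem_Par_short {r : ℕ} (hρ : (GR).ρ r ≠ r) (t : K) : t ∈ Par hq hK r := by
  rw [Par, if_neg hρ]; trivial

theorem El_add {r : ℕ} (hr : r < 72) (s t : K) : El hq hK r s * El hq hK r t = El hq hK r (s + t) := by
  by_cases hρ : (GR).ρ r = r
  · simp only [El_long hq hK hρ]; exact x_add hr s t
  · simp only [El_short hq hK hρ]; exact E_add hq hK hr hρ s t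

theorem El_zero {r : ℕ} (hr : r < 72) : El hq hK r (0 : K) = 1 := by
  have e := El_add hq hK hr (0 : K) 0
  rw [add_zero] at e
  exact mul_eq_left.mp e

theorem El_fix {r : ℕ} (hr : r < 72) {t : K} (ht : t ∈ Par hq hK r) : El hq hK r t ∈ (SS).fix := by
  by_cases hρ : (GR).ρ r = r
  · rw [El_long hq hK hρ]; exact long_fix hq hK hr hρ ((mem_Par_long hq hK hρ).mp ht)
  · rw [El_short hq hK hρ]; exact E_fix hq hK hr hρ t

theorem El_mem {r : ℕ} (hr : r < 72) {P : ℕ → Prop} (h1 : P r) (h2 : P ((GR).ρ r)) (t : K) :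
    El hq hK r t ∈ (TT).rootGen K P := by
  have hρ' := (rho_lt r hr).1
  by_cases hρ : (GR).ρ r = r
  · rw [El_long hq hK hρ]; exact xU_mem_rootGen (hn ▸ hr) h1 t
  · rw [El_short hq hK hρ]
    exact mul_mem (xU_mem_rootGen (hn ▸ hr) h1 t) (xU_mem_rootGen (hn ▸ hρ') h2 _)

theorem el_add (i : Fin 24) (s t : K) : el hq hK i s * el hq hK i t = el hq hK i (s + t) :=
  El_add hq hK (Rt_facts i).1 s t

theorem el_zero (i : Fin 24) : el hq hK i (0 : K) = 1 := El_zero hq hK (Rt_facts i).1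

theorem el_fix (i : Fin 24) {t : K} (ht : t ∈ pars hq hK i) : el hq hK i t ∈ (SS).fix :=
  El_fix hq hK (Rt_facts i).1 ht

theorem el_rem (i : Fin 24) (t : K) : el hq hK i t ∈ (TT).rootGen K (rem (23 - i.val)) := by
  obtain ⟨h1, h2, h3, h4, h5⟩ := Rt_facts i
  exact El_mem hq hK h1 ⟨h2, h3.ge⟩ ⟨h4, h5.ge⟩ t

theorem el_UU (i : Fin 24) (t : K) : el hq hK i t ∈ UU :=
  pos_le (fun _ h => h.1) (el_rem hq hK i t)

theorem Gl_le (m : ℕ) :
    Gl (pars hq hK) (el hq hK) m ≤ (SS).fix ⊓ (TT).rootGen K (rem (24 - m)) := by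
  refine (Subgroup.closure_le _).mpr ?_
  rintro x ⟨i, hi, s, hs, rfl⟩
  exact ⟨el_fix hq hK i hs, rootGen_mono (fun r _ h => ⟨h.1, le_trans (by omega) h.2⟩) (el_rem hq hK i s)⟩

theorem rho_rem (k : ℕ) : ∀ s < 72, rem k s → rem k ((GR).ρ s) := fun s hs h =>
  ⟨(rk_rho s hs h.1).1, (rk_rho s hs h.1).2.symm ▸ h.2⟩

theorem up_rem_or {k r : ℕ} (hr : r < 72) (hp : 36 ≤ r) (hrk : k ≤ rk r) :
    Up (fun s => rem (k + 1) s ∨ s = r) :=
  ⟨fun s h => h.elim (fun h => h.1) (fun e => e ▸ hp), fun a ha hap s hs h c hc => by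
    rcases h with h | rfl
    · exact Or.inl ((up_rem (k + 1)).2 a ha hap s hs h c hc)
    · obtain ⟨h1, -, h3, -, -⟩ := grow a ha hap s hs hp c hc
      exact Or.inl ⟨h1, by omega⟩⟩

/-- The fixed points in a tail are generated by its families. -/
theorem fix_rem : ∀ m, m ≤ 24 → ∀ g ∈ (TT).rootGen K (rem (24 - m)), g ∈ (SS).fix →
    g ∈ Gl (pars hq hK) (el hq hK) m := by
  intro m
  induction m with
  | zero =>
    intro _ g hg _
    have hle : (TT).rootGen K (rem (24 - 0)) ≤ ⊥ :=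
      rootGen_le fun r hr h t => absurd h.2 (not_le.mpr (rk_lt r (hn ▸ hr) h.1))
    rw [Subgroup.mem_bot.mp (hle hg)]
    exact one_mem _
  | succ m ih =>
    intro hm g hg hf
    set i : Fin 24 := ⟨m, by omega⟩ with hi
    obtain ⟨h1, h2, h3, h4, h5⟩ := Rt_facts i
    have e : 24 - m = 23 - m + 1 := by omega
    have h3' : rk (Rt i) = 23 - m := h3
    have h5' : rk ((GR).ρ (Rt i)) = 23 - m := h5
    have hnQ : ¬ rem (23 - m + 1) (Rt i) := fun h => by have := h.2; omega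
    have hP : ∀ s < 72, rem (24 - (m + 1)) s → s = Rt i ∨ s = (GR).ρ (Rt i) ∨ rem (23 - m + 1) s := by
      intro s hs h
      rcases Nat.lt_or_ge (23 - m) (rk s) with hlt | hge
      · exact Or.inr (Or.inr ⟨h.1, hlt⟩)
      · have := h.2
        exact (Rt_cover i s hs h.1 (show rk s = 23 - m by omega)).imp id Or.inl
    have hmono : Gl (pars hq hK) (el hq hK) m ≤ Gl (pars hq hK) (el hq hK) (m + 1) :=
      Subgroup.closure_mono fun x ⟨l, hl, hx⟩ => ⟨l, Nat.lt_succ_of_lt hl, hx⟩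
    by_cases hρ : (GR).ρ (Rt i) = Rt i
    · obtain ⟨c, hc, g', hg', hf', rfl⟩ := split_long (up_rem (23 - m + 1)) h1 h2 hρ hnQ (rho_rem _)
        (fun s hs h => by
          rcases hP s hs h with k | k | k
          · exact Or.inl k
          · exact Or.inl (k.trans hρ)
          · exact Or.inr k) hg hf
      refine mul_mem (Subgroup.subset_closure ⟨i, Nat.lt_succ_self m, c, (mem_Par_long hq hK hρ).mpr hc,
        (El_long hq hK hρ c).symm⟩) (hmono (ih (by omega) g' (by rw [e]; exact hg') hf'))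
    · obtain ⟨t, g', hg', hf', rfl⟩ := split_short (up_rem (23 - m + 1)) h1 ⟨h2, h4⟩ hρ hnQ (rho_rem _)
        (up_rem_or (rho_lt _ h1).1 h4 h5'.ge) hP hg hf
      refine mul_mem (Subgroup.subset_closure ⟨i, Nat.lt_succ_self m, t, mem_Par_short hq hK hρ t,
        (El_short hq hK hρ t).symm⟩) (hmono (ih (by omega) g' (by rw [e]; exact hg') hf'))

theorem el_indep (i : Fin 24) {t : K} (h : el hq hK i t ∈ Gl (pars hq hK) (el hq hK) i.val) : t = 0 := by
  obtain ⟨h1, h2, h3, h4, h5⟩ := Rt_facts i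
  have hg := (Gl_le hq hK i.val h).2
  rw [show 24 - i.val = 23 - i.val + 1 by omega] at hg
  have hnQ : ¬ rem (23 - i.val + 1) (Rt i) := fun h => by have := h.2; omega
  by_cases hρ : (GR).ρ (Rt i) = Rt i
  · exact coord_zero (up_rem _).closed (up_rem _).1 h1 h2 hnQ (by rwa [← El_long hq hK hρ])
  · have hQ' := up_rem_or (k := 23 - i.val) (rho_lt _ h1).1 h4 h5.ge
    refine coord_zero hQ'.closed hQ'.1 h1 h2 (fun h => h.elim hnQ fun h => hρ h.symm) ?_
    have hg' : E hq hK (Rt i) t ∈ (TT).rootGen K (fun s => rem (23 - i.val + 1) s ∨ s = (GR).ρ (Rt i)) := by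
      rw [← El_short hq hK hρ]
      exact rootGen_mono (fun _ _ h => Or.inl h) hg
    have hx := xU_mem_rootGen (T := TT) (F := K)
      (P := fun s => rem (23 - i.val + 1) s ∨ s = (GR).ρ (Rt i)) (hn ▸ (rho_lt _ h1).1) (Or.inr rfl)
      (((GR).ε (Rt i) : K) * σ t)
    have := mul_mem hg' (inv_mem hx)
    rwa [E, mul_inv_cancel_right] at this

theorem el_rule {j k : Fin 24} (hjk : j < k) {t : K} (ht : t ∈ pars hq hK k) {u : K}
    (hu : u ∈ pars hq hK j) : ∃ r ∈ Gl (pars hq hK) (el hq hK) j.val,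
      el hq hK j u * el hq hK k t = el hq hK k t * el hq hK j u * r := by
  obtain ⟨a1, a2, a3, a4, a5⟩ := Rt_facts j
  obtain ⟨b1, b2, b3, b4, b5⟩ := Rt_facts k
  have hQ := up_rem (24 - j.val)
  have hkU := el_UU hq hK k t
  set P : ℕ → Prop := fun s => 36 ≤ s ∧ rk s = 23 - j.val
  have hgen : ∀ s < 72, P s → ∀ b < 72, 36 ≤ b → ∀ v x : K, CM (rem (24 - j.val)) (xx s v) (xx b x) :=
    fun s hs hP b hb hbp v x => cm_gen hQ hb hbp hs hP.1 (Or.inr fun c hc => by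
      obtain ⟨g1, -, g3, -, -⟩ := grow b hb hbp s hs hP.1 c hc
      exact ⟨g1, by have := hP.2; omega⟩) v x
  have hcm : CM (rem (24 - j.val)) (el hq hK j u) (el hq hK k t) := by
    refine cm_of_gen hQ (P := P) (fun _ h => h.1) hkU (fun s hs hP v => ?_)
      (El_mem hq hK a1 ⟨a2, a3⟩ ⟨a4, a5⟩ u)
    by_cases hρ : (GR).ρ (Rt k) = Rt k
    · rw [el, El_long hq hK hρ]; exact hgen s hs hP _ b1 b2 v t
    · rw [el, El_short hq hK hρ, E]
      exact (hgen s hs hP _ b1 b2 v t).mul_right hQ (x_U b1 b2 _) (hgen s hs hP _ (rho_lt _ b1).1 b4 v _)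
  refine ⟨(el hq hK k t * el hq hK j u)⁻¹ * (el hq hK j u * el hq hK k t), ?_, by group⟩
  refine fix_rem hq hK j.val (by omega) _ ?_ ?_
  · have := hQ.move (inv_mem (mul_mem hkU (el_UU hq hK j u))) hcm
    rwa [show (el hq hK k t * el hq hK j u)⁻¹ * (el hq hK j u * el hq hK k t * (el hq hK j u)⁻¹ *
      (el hq hK k t)⁻¹) * (el hq hK k t * el hq hK j u)⁻¹⁻¹ =
      (el hq hK k t * el hq hK j u)⁻¹ * (el hq hK j u * el hq hK k t) by group] at this
  · have hj := el_fix hq hK j hu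
    have hk := el_fix hq hK k ht
    exact mul_mem (inv_mem (mul_mem hk hj)) (mul_mem hj hk)

/-- The exponents of a weight with respect to `γ` and `γ ^ q`. -/
def wexp (v : Fin 6 → ℤ) (r : ℕ) : ℤ × ℤ :=
  (v 0 * Data.E6.tbl.ca 0 r + v 1 * Data.E6.tbl.ca 5 r + v 2 * Data.E6.tbl.ca 2 r +
      v 3 * Data.E6.tbl.ca 4 r + v 4 * Data.E6.tbl.ca 1 r + v 5 * Data.E6.tbl.ca 3 r,
    v 1 * Data.E6.tbl.ca 0 r + v 0 * Data.E6.tbl.ca 5 r + v 3 * Data.E6.tbl.ca 2 r +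
      v 2 * Data.E6.tbl.ca 4 r + v 4 * Data.E6.tbl.ca 1 r + v 5 * Data.E6.tbl.ca 3 r)

theorem ca_rho : ∀ r < 72, (TT).ca 0 ((GR).ρ r) = (TT).ca 5 r ∧ (TT).ca 5 ((GR).ρ r) = (TT).ca 0 r ∧
    (TT).ca 2 ((GR).ρ r) = (TT).ca 4 r ∧ (TT).ca 4 ((GR).ρ r) = (TT).ca 2 r ∧
    (TT).ca 1 ((GR).ρ r) = (TT).ca 1 r ∧ (TT).ca 3 ((GR).ρ r) = (TT).ca 3 r := by
  decide +kernel

theorem wexp_rho {v : Fin 6 → ℤ} {r : ℕ} (hr : r < 72) :
    wexp v ((GR).ρ r) = ((wexp v r).2, (wexp v r).1) := by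
  obtain ⟨h0, h5, h2, h4, h1, h3⟩ := ca_rho r hr
  simp only [wexp, h0, h5, h2, h4, h1, h3]
  exact Prod.ext (by ring) (by ring)

/-- The torus parameter. -/
def tf (q : ℕ) (γ : Kˣ) (v : Fin 6 → ℤ) : Fin (Data.E6.tbl).rank → Kˣ :=
  fun i => if i.val = 0 then γ ^ v 0 * (γ ^ q) ^ v 1 else if i.val = 1 then (γ * γ ^ q) ^ v 4
    else if i.val = 2 then γ ^ v 2 * (γ ^ q) ^ v 3 else if i.val = 3 then (γ * γ ^ q) ^ v 5
    else if i.val = 4 then (γ ^ v 2 * (γ ^ q) ^ v 3) ^ q else (γ ^ v 0 * (γ ^ q) ^ v 1) ^ q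

/-- The torus elements. -/
noncomputable def tor (q : ℕ) (γ : Kˣ) (v : Fin 6 → ℤ) : GL (Data.E6.tbl).I K :=
  torusHom Data.E6.tbl K (tf q γ v)

/-- The weights. -/
def wt (q : ℕ) (γ : Kˣ) (v : Fin 6 → ℤ) (r : ℕ) : Kˣ :=
  γ ^ (wexp v r).1 * (γ ^ q) ^ (wexp v r).2

include hq hK in
theorem swap_pow (γ : Kˣ) (a b : ℤ) : (γ ^ a * (γ ^ q) ^ b) ^ q = (γ ^ q) ^ a * γ ^ b := by
  have e : ∀ (x : Kˣ) (a : ℤ), (x ^ a) ^ q = (x ^ q) ^ a := fun x a => by
    rw [← zpow_natCast, ← zpow_natCast, ← zpow_mul, ← zpow_mul, mul_comm]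
  rw [mul_pow, e, e, Twist.E6.units_pow_sq hK]

include hq hK in
theorem tor_fix (γ : Kˣ) (v : Fin 6 → ℤ) : tor q γ v ∈ (SS).fix := by
  have : tor q γ v ∈ (TT).datum.diagonalSubgroup K ⊓ (SS).fix := by
    rw [Twist.E6.diag_fix hq hK]
    refine ⟨tf q γ v, (Twist.E6.mem_tauFix hq hK).mpr ⟨?_, ?_, rfl, rfl⟩, rfl⟩
    · show ((γ * γ ^ q) ^ v 4) ^ q = (γ * γ ^ q) ^ v 4
      rw [mul_zpow, swap_pow hq hK, mul_comm]
    · show ((γ * γ ^ q) ^ v 5) ^ q = (γ * γ ^ q) ^ v 5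
      rw [mul_zpow, swap_pow hq hK, mul_comm]
  exact this.2

include hq hK in
theorem tCh_tf (γ : Kˣ) (v : Fin 6 → ℤ) (r : ℕ) :
    CoxeterTorus.tCh TT (tf q γ v) r = wt q γ v r := by
  show (∏ i : Fin 6, tf q γ v i ^ (TT).ca i r) = _
  rw [Fin.prod_univ_six]
  show (γ ^ v 0 * (γ ^ q) ^ v 1) ^ (TT).ca 0 r * ((γ * γ ^ q) ^ v 4) ^ (TT).ca 1 r *
    (γ ^ v 2 * (γ ^ q) ^ v 3) ^ (TT).ca 2 r * ((γ * γ ^ q) ^ v 5) ^ (TT).ca 3 r *
    ((γ ^ v 2 * (γ ^ q) ^ v 3) ^ q) ^ (TT).ca 4 r * ((γ ^ v 0 * (γ ^ q) ^ v 1) ^ q) ^ (TT).ca 5 r = _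
  rw [swap_pow hq hK, swap_pow hq hK, wt, wexp]
  generalize γ ^ q = G
  apply Units.ext
  simp only [mul_zpow, ← zpow_mul, zpow_add, Units.val_mul]
  ring

include hq hK in
theorem tor_El (γ : Kˣ) (v : Fin 6 → ℤ) {r : ℕ} (hr : r < 72) (t : K) :
    tor q γ v * El hq hK r t = El hq hK r ((wt q γ v r : K) * t) * tor q γ v := by
  have hx : ∀ s < 72, ∀ x : K, tor q γ v * xx s x = xx s ((wt q γ v s : K) * x) * tor q γ v := by
    intro s hs x
    rw [← tCh_tf hq hK]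
    exact CoxeterTorus.torus_xU Data.E6.valid (tf q γ v) ⟨s, hn ▸ hs⟩ x
  by_cases hρ : (GR).ρ r = r
  · simp only [El_long hq hK hρ]; exact hx r hr t
  · simp only [El_short hq hK hρ, E]
    rw [← mul_assoc, hx r hr, mul_assoc, hx _ (rho_lt r hr).1, ← mul_assoc]
    have e : σ (wt q γ v r : K) = (wt q γ v ((GR).ρ r) : K) := by
      rw [Twist.E6.fq_apply, ← Units.val_pow_eq_pow_val, wt, wt, wexp_rho hr, swap_pow hq hK, mul_comm]
    rw [map_mul, e, mul_left_comm]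

theorem wt_mem (γ : Kˣ) (v : Fin 6 → ℤ) {r : ℕ} (hr : r < 72) :
    (wt q γ v r : K) ∈ Par hq hK r := by
  by_cases hρ : (GR).ρ r = r
  · rw [mem_Par_long hq hK hρ, Twist.E6.fq_apply, ← Units.val_pow_eq_pow_val]
    have h := wexp_rho (v := v) hr
    rw [hρ] at h
    have h' : (wexp v r).1 = (wexp v r).2 := congrArg Prod.fst h
    rw [wt, swap_pow hq hK, h']
    exact congrArg Units.val (mul_comm _ _)
  · exact mem_Par_short hq hK hρ _

theorem tor_comm (γ : Kˣ) (v v' : Fin 6 → ℤ) : tor q γ v * tor q γ v' = tor q γ v' * tor q γ v := by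
  rw [tor, tor, ← map_mul, ← map_mul, mul_comm]

end CfsgLib.KnownA.E6Multiplier
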